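import Groth.Agent.Lib.RankFree12.Ring
import Groth.Agent.Lib.ModM1.LocFree
import Mathlib.LinearAlgebra.Dimension.Constructions
import Mathlib.AlgebraicGeometry.Properties

/-!
# Finite locally free = finite type with locally constant fibre rank (reduced / free stalks)
-/

universe u

set_option linter.style.haveILetI false

open CategoryTheory Limits AlgebraicGeometry TopologicalSpace TensorProduct

namespace Groth.Agent.RankFree12

open M1

variable {X : Scheme.{u}}

/-- The fibre rank. -/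
noncomputable abbrev rk (M : X.Modules) (x : X) : ℕ :=
  Module.finrank (IsLocalRing.ResidueField (X.presheaf.stalk x))
    (TensorProduct (X.presheaf.stalk x) (IsLocalRing.ResidueField (X.presheaf.stalk x)) (M.presheaf.stalk x))

theorem rk_of_freeMod {M : X.Modules} {U : X.Opens} {n : ℕ} (hM : Coh.IsQCoh M)
    (e : M.restrict U.ι ≅ FlatMod.freeMod (U : Scheme.{u}) n) {x : X} (hx : x ∈ U) :
    rk M x = n := by
  haveI := hM
  obtain ⟨W, hW, hxW, hWU⟩ := exists_isAffineOpen_mem_and_subset (x := x) (U := U) hx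
  have h : Set.range hW.fromSpec ⊆ Set.range U.ι := by
    rw [IsAffineOpen.range_fromSpec, Scheme.Opens.range_ι]; exact hWU
  let l := IsOpenImmersion.lift U.ι hW.fromSpec h
  let e' : M.restrict hW.fromSpec ≅ (tilde.functor Γ(X, W)).obj
      (ModuleCat.of Γ(X, W) (ULift.{u} (Fin n) →₀ Γ(X, W))) :=
    (restrictLiftIso M U.ι hW.fromSpec h).symm ≪≫
    (Scheme.Modules.restrictFunctor l).mapIso (e ≪≫ freeModFrIso _ _) ≪≫
      (frRestrictIso l _).symm ≪≫ (frTildeIso _).symm
  let L : (ULift.{u} (Fin n) →₀ Γ(X, W)) ≃ₗ[Γ(X, W)] Γ(M, W) :=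
    ((tilde.isoTop _ ≪≫ moduleSpecΓFunctor.mapIso e'.symm).toLinearEquiv).trans (affineSecEquiv M hW)
  let b : Module.Basis (ULift.{u} (Fin n)) Γ(X, W) Γ(M, W) := ⟨L.symm⟩
  letI := stalkModule M hxW
  haveI := isLocalizedModule_germ M hW hxW
  let := TopCat.Presheaf.algebra_section_stalk X.presheaf (⟨x, hxW⟩ : W)
  haveI := hW.isLocalization_stalk ⟨x, hxW⟩
  haveI : IsScalarTower Γ(X, W) (X.presheaf.stalk x) (M.presheaf.stalk x) :=
    IsScalarTower.of_algebraMap_smul fun _ _ => rfl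
  let b' := b.ofIsLocalizedModule (X.presheaf.stalk x) (hW.primeIdealOf ⟨x, hxW⟩).asIdeal.primeCompl
    (germₗ M hxW)
  haveI := Module.Free.of_basis b'
  rw [rk, Module.finrank_baseChange, Module.finrank_eq_card_basis b', Fintype.card_ulift,
    Fintype.card_fin]

theorem isLocallyConstant_rk {M : X.Modules} (h : FlatMod.IsFinLocFree M) :
    IsLocallyConstant (rk M) := by
  refine (IsLocallyConstant.iff_exists_open _).2 fun x => ?_
  obtain ⟨U, n, hxU, ⟨e⟩⟩ := h x
  refine ⟨U, U.2, hxU, fun y hy => ?_⟩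
  rw [rk_of_freeMod (isFP_isQCoh (isFP_of_isFinLocFree h)) e hy,
    rk_of_freeMod (isFP_isQCoh (isFP_of_isFinLocFree h)) e hxU]

/-- Finite type with locally constant fibre rank is finite locally free, if the scheme is reduced
or the stalks are free. -/
theorem isFinLocFree_of_rk {M : X.Modules} (hQ : Coh.IsQCoh M) (hFT : CohB1.IsFT M)
    (hc : IsLocallyConstant (rk M))
    (h : IsReduced X ∨ ∀ x : X, Module.Free (X.presheaf.stalk x) (M.presheaf.stalk x)) :
    FlatMod.IsFinLocFree M := by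
  intro x
  haveI := hQ
  obtain ⟨O, hO, hxO, hcO⟩ := (IsLocallyConstant.iff_exists_open _).1 hc x
  obtain ⟨U, hU, hxU, hUO⟩ := exists_isAffineOpen_mem_and_subset (x := x) (U := ⟨O, hO⟩) hxO
  haveI := isQCoh_fromSpec hQ hU
  let N := moduleSpecΓFunctor.obj (M.restrict hU.fromSpec)
  let eN : N ≃ₗ[Γ(X, U)] Γ(M, U) := affineSecEquiv M hU
  haveI : Module.Finite Γ(X, U) Γ(M, U) := finite_sections hQ hFT hU
  haveI : Module.Finite Γ(X, U) N := Module.Finite.equiv eN.symm
  let P : U → PrimeSpectrum Γ(X, U) := fun y => hU.primeIdealOf y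
  have hP : Function.Surjective P := fun q =>
    ⟨⟨hU.fromSpec q, hU.range_fromSpec.le ⟨q, rfl⟩⟩, hU.fromSpec.isOpenEmbedding.injective
      (hU.fromSpec_primeIdealOf _)⟩
  letI (y : U) : Algebra Γ(X, U) (X.presheaf.stalk y.1) := TopCat.Presheaf.algebra_section_stalk X.presheaf y
  haveI (y : U) : IsLocalization.AtPrime (X.presheaf.stalk y.1) (P y).asIdeal := hU.isLocalization_stalk y
  letI (y : U) : Module Γ(X, U) (M.presheaf.stalk y.1) := stalkModule M y.2
  haveI (y : U) : IsScalarTower Γ(X, U) (X.presheaf.stalk y.1) (M.presheaf.stalk y.1) :=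
    IsScalarTower.of_algebraMap_smul fun _ _ => rfl
  let g : ∀ y : U, N →ₗ[Γ(X, U)] (M.presheaf.stalk y.1) := fun y =>
    (germₗ M y.2) ∘ₗ eN.toLinearMap
  haveI (y : U) : IsLocalizedModule (P y).asIdeal.primeCompl (g y) := by
    haveI := isLocalizedModule_germ M hU y.2
    exact IsLocalizedModule.of_linearEquiv_right _ _ eN
  obtain ⟨r, hr, hfree⟩ := exists_free_away P hP (fun y : U => X.presheaf.stalk y.1)
    (fun y : U => M.presheaf.stalk y.1) g ⟨x, hxU⟩ 1
    (fun h1 => (P ⟨x, hxU⟩).isPrime.ne_top ((Ideal.eq_top_iff_one _).2 h1)) (rk M x)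
    (fun y _ => hcO y.1 (hUO y.2)) (h.imp (fun hr => @IsReduced.component_reduced X hr U) fun hh y => hh y.1)
  haveI := hfree
  obtain ⟨I, hI, ⟨e⟩⟩ := exists_fr_away N r
  let j := Spec.map (CommRingCat.ofHom (algebraMap Γ(X, U) (Localization (.powers r))))
  haveI : IsOpenImmersion j := IsOpenImmersion.of_isLocalization r
  have hmem : P ⟨x, hxU⟩ ∈ Set.range j := by
    change P ⟨x, hxU⟩ ∈ Set.range (PrimeSpectrum.comap (algebraMap Γ(X, U) (Localization (.powers r))))
    rw [PrimeSpectrum.localization_away_comap_range (S := Localization.Away r) r]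
    exact hr
  obtain ⟨z, hz⟩ := hmem
  let f : M.restrict hU.fromSpec ≅ tilde N :=
    (@asIso _ _ _ _ (M.restrict hU.fromSpec).fromTildeΓ
      (Scheme.Modules.isIso_fromTildeΓ_of_isQuasicoherent (R := Γ(X, U)) _)).symm
  obtain ⟨V, n, hV, hn⟩ := exists_freeMod_of_openImmersion (j ≫ hU.fromSpec)
    ((restrictRestrictIso M hU.fromSpec j (j ≫ hU.fromSpec) rfl).symm ≪≫
      (Scheme.Modules.restrictFunctor j).mapIso f ≪≫
      (Scheme.Modules.restrictFunctorIsoPullback j).app (tilde N) ≪≫ e) z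
  refine ⟨V, n, ?_, hn⟩
  rwa [Scheme.Hom.comp_apply, hz, IsAffineOpen.fromSpec_primeIdealOf] at hV

end Groth.Agent.RankFree12
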