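import Mathlib.RingTheory.Spectrum.Prime.FreeLocus
import Mathlib.RingTheory.Support
import Mathlib.RingTheory.LocalRing.Module
import Mathlib.RingTheory.Nilpotent.Lemmas
import Mathlib.RingTheory.Localization.Free
import Mathlib.LinearAlgebra.FiniteDimensional.Lemmas
import Mathlib.Algebra.Module.Torsion.Basic
import Mathlib.LinearAlgebra.Dimension.OrzechProperty

/-!
# Finite modules with constant fibre rank
-/

universe u

set_option linter.style.haveILetI false

open TensorProduct IsLocalRing

namespace Groth.Agent.RankFree12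

theorem free_away_of_ker {A N : Type u} [CommRing A] [AddCommGroup N] [Module A N] {n : ℕ}
    (Φ : (Fin n → A) →ₗ[A] N) (r : A) (hs : ∀ m : N, r • m ∈ LinearMap.range Φ)
    (hk : ∀ a, Φ a = 0 → ∀ j, ∃ k : ℕ, r ^ k * a j = 0) :
    Module.Free (Localization (Submonoid.powers r)) (LocalizedModule (Submonoid.powers r) N) := by
  classical
  let S := Submonoid.powers r
  let F := LocalizedModule.map S Φ
  let b := (Pi.basisFun A (Fin n)).ofIsLocalizedModule (Localization S) S
    (LocalizedModule.mkLinearMap S (Fin n → A))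
  have hinj : Function.Injective F := by
    refine (injective_iff_map_eq_zero F).2 fun x hx => ?_
    induction x using LocalizedModule.induction_on with
    | h a s =>
      rw [LocalizedModule.map_mk, ← LocalizedModule.zero_mk s, LocalizedModule.mk_eq] at hx
      obtain ⟨⟨c, l, rfl⟩, hc⟩ := hx
      simp only [smul_zero, Submonoid.smul_def, smul_smul] at hc
      rw [← map_smul] at hc
      choose k hk' using hk _ hc
      obtain ⟨K, hK⟩ : ∃ K, ∀ j, k j ≤ K := ⟨Finset.univ.sup k, fun j => Finset.le_sup (Finset.mem_univ j)⟩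
      rw [← LocalizedModule.zero_mk s, LocalizedModule.mk_eq]
      refine ⟨⟨r ^ K, K, rfl⟩ * ⟨r ^ l, l, rfl⟩, ?_⟩
      funext j
      have h0 : r ^ K * (r ^ l * (s : A) * a j) = 0 := by
        rw [← Nat.sub_add_cancel (hK j), pow_add, mul_assoc]
        have := hk' j
        simp only [Pi.smul_apply, smul_eq_mul] at this
        rw [this, mul_zero]
      simp only [smul_zero, Submonoid.smul_def, Pi.smul_apply, smul_eq_mul, Submonoid.coe_mul,
        Pi.zero_apply]
      rw [← h0]; ring
  have hsurj : Function.Surjective F := by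
    intro y
    induction y using LocalizedModule.induction_on with
    | h m s =>
      obtain ⟨a, ha⟩ := hs m
      refine ⟨LocalizedModule.mk a (s * ⟨r, 1, pow_one r⟩), ?_⟩
      rw [LocalizedModule.map_mk, ha, LocalizedModule.mk_eq]
      exact ⟨1, by simp only [one_smul, Submonoid.smul_def, Submonoid.coe_mul, smul_smul]⟩
  haveI : Module.Free (Localization S) (LocalizedModule S (Fin n → A)) := Module.Free.of_basis b
  exact Module.Free.of_equiv (LinearEquiv.ofBijective F ⟨hinj, hsurj⟩)

theorem exists_free_away {A N : Type u} [CommRing A] [AddCommGroup N] [Module A N] [Module.Finite A N]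
    {ι : Type u} (P : ι → PrimeSpectrum A) (hP : Function.Surjective P)
    (S : ι → Type u) [∀ i, CommRing (S i)] [∀ i, Algebra A (S i)] [∀ i, IsLocalRing (S i)]
    [∀ i, IsLocalization.AtPrime (S i) (P i).asIdeal]
    (L : ι → Type u) [∀ i, AddCommGroup (L i)] [∀ i, Module A (L i)] [∀ i, Module (S i) (L i)]
    [∀ i, IsScalarTower A (S i) (L i)] (g : ∀ i, N →ₗ[A] L i)
    [∀ i, IsLocalizedModule (P i).asIdeal.primeCompl (g i)]
    (i₀ : ι) (f : A) (hf : f ∉ (P i₀).asIdeal) (n : ℕ)
    (hn : ∀ i, f ∉ (P i).asIdeal →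
      Module.finrank (ResidueField (S i)) (ResidueField (S i) ⊗[S i] L i) = n)
    (h : IsReduced A ∨ ∀ i, Module.Free (S i) (L i)) :
    ∃ r ∉ (P i₀).asIdeal,
      Module.Free (Localization (Submonoid.powers r)) (LocalizedModule (Submonoid.powers r) N) := by
  classical
  haveI : ∀ i, Module.Finite (S i) (L i) := fun i =>
    Module.Finite.of_isLocalizedModule (P i).asIdeal.primeCompl (Rₚ := S i) (g i)
  -- generators at the base point
  let K := ResidueField (S i₀)
  let bK := Module.finBasisOfFinrankEq K (K ⊗[S i₀] L i₀) (hn i₀ hf)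
  have hmk : Function.Surjective (TensorProduct.mk (S i₀) K (L i₀) 1) :=
    TensorProduct.mk_surjective (S i₀) (L i₀) K IsLocalRing.residue_surjective
  choose s hs using fun j => hmk (bK j)
  choose mt hmt using fun j => IsLocalizedModule.surj (P i₀).asIdeal.primeCompl (g i₀) (s j)
  let m : Fin n → N := fun j => (mt j).1
  let Φ : (Fin n → A) →ₗ[A] N := Fintype.linearCombination A m
  have hspan : Submodule.span (S i₀) (Set.range fun j => g i₀ (m j)) = ⊤ := by
    rw [eq_top_iff, ← IsLocalRing.span_eq_top_of_tmul_eq_basis (f := s) bK (fun j => hs j),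
      Submodule.span_le]
    rintro _ ⟨j, rfl⟩
    have hu := IsLocalization.map_units (S i₀) (mt j).2
    have e : g i₀ (m j) = (algebraMap A (S i₀) ((mt j).2 : A)) • s j := by
      rw [algebraMap_smul]; exact (hmt j).symm
    rw [show s j = (↑hu.unit⁻¹ : S i₀) • g i₀ (m j) by
      rw [e, smul_smul, IsUnit.val_inv_mul, one_smul]]
    exact Submodule.smul_mem _ _ (Submodule.subset_span ⟨j, rfl⟩)
  -- the cokernel vanishes near the base point
  obtain ⟨r₁, hr₁, hr₁'⟩ : ∃ r ∉ (P i₀).asIdeal, ∀ x : N, r • x ∈ LinearMap.range Φ := by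
    have hQ : P i₀ ∉ Module.support A (N ⧸ LinearMap.range Φ) := by
      rw [Module.notMem_support_iff']
      intro q
      induction q using Submodule.Quotient.induction_on with
      | H x =>
        obtain ⟨c, hc⟩ := (Submodule.mem_span_range_iff_exists_fun (S i₀)).1
          (hspan.ge (Submodule.mem_top (x := g i₀ x)))
        obtain ⟨t, ht⟩ := IsLocalization.exist_integer_multiples_of_finite (P i₀).asIdeal.primeCompl c
        choose a ha using ht
        have : g i₀ ((t : A) • x) = g i₀ (Φ a) := by
          rw [map_smul, ← hc, Finset.smul_sum]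
          simp only [Φ, Fintype.linearCombination_apply, map_sum, map_smul]
          refine Finset.sum_congr rfl fun j _ => ?_
          rw [← algebraMap_smul (S i₀) (a j), ha j, smul_assoc]
        obtain ⟨t', ht'⟩ := IsLocalizedModule.exists_of_eq (S := (P i₀).asIdeal.primeCompl) this
        refine ⟨(t' : A) * t, (t' * t).2, ?_⟩
        rw [← Submodule.Quotient.mk_smul, Submodule.Quotient.mk_eq_zero, mul_smul]
        rw [Submonoid.smul_def, Submonoid.smul_def] at ht'
        rw [ht']
        exact Submodule.smul_mem _ _ ⟨a, rfl⟩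
    rw [Module.support_eq_zeroLocus, PrimeSpectrum.mem_zeroLocus, Set.not_subset] at hQ
    obtain ⟨r, hr, hr'⟩ := hQ
    refine ⟨r, hr', fun x => ?_⟩
    rw [← Submodule.Quotient.mk_eq_zero, Submodule.Quotient.mk_smul]
    exact Module.mem_annihilator.1 hr _
  let r := r₁ * f
  refine ⟨r, fun h' => ((P i₀).isPrime.mem_or_mem h').elim hr₁ hf, free_away_of_ker Φ r ?_ ?_⟩
  · intro x
    rw [show r = f * r₁ from mul_comm _ _, mul_smul]
    exact Submodule.smul_mem _ _ (hr₁' x)
  intro a ha j
  -- at every point of `D(r)` the generators form a basis of the fibre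
  have hgen : ∀ i, r ∉ (P i).asIdeal →
      Submodule.span (S i) (Set.range fun j => g i (m j)) = ⊤ ∧ f ∉ (P i).asIdeal := by
    intro i hi
    refine ⟨eq_top_iff.2 fun y _ => ?_, fun h' => hi (Ideal.mul_mem_left _ _ h')⟩
    obtain ⟨⟨x, t⟩, hxt⟩ := IsLocalizedModule.surj (P i).asIdeal.primeCompl (g i) y
    obtain ⟨c, hc⟩ := hr₁' x
    have hu : IsUnit (algebraMap A (S i) (r₁ * (t : A))) :=
      IsLocalization.map_units (S i) (⟨r₁ * t, fun h' => ((P i).isPrime.mem_or_mem h').elim
        (fun h'' => hi (Ideal.mul_mem_right _ _ h'')) t.2⟩ : (P i).asIdeal.primeCompl)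
    have hy : algebraMap A (S i) (r₁ * (t : A)) • y = g i (Φ c) := by
      rw [algebraMap_smul, mul_smul, hc, map_smul]
      exact congrArg (r₁ • ·) hxt
    rw [← one_smul (S i) y, ← IsUnit.val_inv_mul hu, mul_smul, hy]
    refine Submodule.smul_mem _ _ ?_
    simp only [Φ, Fintype.linearCombination_apply, map_sum, map_smul]
    refine Submodule.sum_mem _ fun j _ => ?_
    rw [← algebraMap_smul (S i) (c j)]
    exact Submodule.smul_mem _ _ (Submodule.subset_span ⟨j, rfl⟩)
  have hrel : ∀ i, ∑ j, algebraMap A (S i) (a j) • g i (m j) = 0 := by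
    intro i
    have := congrArg (g i) ha
    simp only [Φ, Fintype.linearCombination_apply, map_sum, map_smul, map_zero] at this
    simpa only [algebraMap_smul] using this
  rcases h with hred | hfree
  · refine ⟨1, ?_⟩
    rw [pow_one]
    refine IsReduced.eq_zero _ ((nilpotent_iff_mem_prime).2 fun q hq => ?_)
    obtain ⟨i, hi⟩ := hP ⟨q, hq⟩
    have hiq : (P i).asIdeal = q := congrArg PrimeSpectrum.asIdeal hi
    by_cases hrq : r ∈ q
    · exact Ideal.mul_mem_right _ _ hrq
    refine Ideal.mul_mem_left _ _ ?_
    obtain ⟨hsp, hfi⟩ := hgen i (fun h' => hrq (hiq.le h'))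
    let k := ResidueField (S i)
    let v : Fin n → k ⊗[S i] L i := fun j => (1 : k) ⊗ₜ[S i] g i (m j)
    have hv : ⊤ ≤ Submodule.span k (Set.range v) := by
      rintro z -
      induction z using TensorProduct.induction_on with
      | zero => exact Submodule.zero_mem _
      | add x y hx hy => exact Submodule.add_mem _ hx hy
      | tmul c y =>
        rw [← mul_one c, ← smul_eq_mul, ← TensorProduct.smul_tmul']
        refine Submodule.smul_mem _ _ ?_
        obtain ⟨d, rfl⟩ := (Submodule.mem_span_range_iff_exists_fun (S i)).1 (hsp.ge (Submodule.mem_top (x := y)))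
        rw [TensorProduct.tmul_sum]
        refine Submodule.sum_mem _ fun j _ => ?_
        rw [← TensorProduct.smul_tmul, Algebra.smul_def, mul_one, ← mul_one (algebraMap (S i) k (d j)),
          ← smul_eq_mul, ← TensorProduct.smul_tmul']
        exact Submodule.smul_mem _ _ (Submodule.subset_span ⟨j, rfl⟩)
    have hli := linearIndependent_of_top_le_span_of_card_eq_finrank hv (by simp [k, hn i hfi])
    have h0 : ∑ j, residue (S i) (algebraMap A (S i) (a j)) • v j = 0 := by
      have := congrArg (fun y => (1 : k) ⊗ₜ[S i] y) (hrel i)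
      simp only [TensorProduct.tmul_sum, TensorProduct.tmul_zero] at this
      refine Eq.trans (Finset.sum_congr rfl fun j _ => ?_) this
      rw [TensorProduct.smul_tmul', ← TensorProduct.smul_tmul]
      refine congrArg (fun c : k => c ⊗ₜ[S i] g i (m j)) ?_
      rw [Algebra.smul_def]
      rfl
    have h1 := Fintype.linearIndependent_iff.1 hli _ h0 j
    rw [residue_eq_zero_iff, ← IsLocalization.AtPrime.to_map_mem_maximal_iff (S i) (P i).asIdeal] at *
    rwa [← hiq, ← IsLocalization.AtPrime.to_map_mem_maximal_iff (S i) (P i).asIdeal]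
  · have hann : Submodule.span A {r} ≤ (Ideal.torsionOf A A (a j) : Ideal A).radical := by
      rw [Ideal.radical_eq_sInf]
      refine le_sInf fun q ⟨hq, hqp⟩ => ?_
      rw [Submodule.span_singleton_le_iff_mem]
      by_contra hrq
      obtain ⟨i, hi⟩ := hP ⟨q, hqp⟩
      have hiq : (P i).asIdeal = q := congrArg PrimeSpectrum.asIdeal hi
      obtain ⟨hsp, hfi⟩ := hgen i (fun h' => hrq (hiq.le h'))
      haveI := hfree i
      have hcard : Module.finrank (S i) (L i) = n := by
        rw [← Module.finrank_baseChange (R := ResidueField (S i)), hn i hfi]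
      have hli := linearIndependent_of_top_le_span_of_card_eq_finrank hsp.ge (by simp [hcard])
      have h2 := Fintype.linearIndependent_iff.1 hli _ (hrel i)
      obtain ⟨t, ht⟩ := (IsLocalization.map_eq_zero_iff (P i).asIdeal.primeCompl (S i) (a j)).1
        (h2 j)
      exact t.2 (hiq.ge (hq (show (t : A) ∈ Ideal.torsionOf A A (a j) from ht)))
    obtain ⟨k, hk⟩ := hann (Submodule.mem_span_singleton_self r)
    exact ⟨k, hk⟩

end Groth.Agent.RankFree12
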